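import Cfsg.Agent.Lib.Helper35.Simple2
import Cfsg.Agent.Lib.Helper35.PresHe

namespace Cfsg.Agent.Lib.Helper35.HeOrd.Y0

open Cfsg.Agent.Lib.Helper35

set_option maxRecDepth 100000
noncomputable section
def yw : List Nat := [3, 5, 6]
noncomputable def tA0 : Nat := 0x1bc000000082449728004394e2644300000000640d000308c24088a0b84108800
noncomputable def tJ0 : Nat := 0xc00000000000100000000000040100000000030080000000000010080100800
noncomputable def tA1 : Nat := 0xa644e00000002a3000440000000038425095243610800000c340c321042908c00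
noncomputable def tJ1 : Nat := 0xc02000000000000002000000000100000000010080000000000010080100400
noncomputable def tA2 : Nat := 0x13af980a6f1240000000000000003942800528420d40000000000410bc2a09000
noncomputable def tJ2 : Nat := 0x801004010080000000000000000000400004020000000000000020000000000
noncomputable def tA3 : Nat := 0xcb800128007540011000000430016e00000108375a467220c5104330c02b09400
noncomputable def tJ3 : Nat := 0xc00000000080000000000000000500000000010100200003000010040100400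
noncomputable def tA4 : Nat := 0x554000000010c000012e00042000004a40000041294000c42c09800
noncomputable def tJ4 : Nat := 0x1000000000040000005000010000000c0000001008000000000000
noncomputable def tA5 : Nat := 0x5540064c000000000000108000012a4a46510400221440002d09c00
noncomputable def tJ5 : Nat := 0xc0000800000000000000000000030100200000000050000100400
noncomputable def tA6 : Nat := 0x6d4005900000000000000000000000624411940021c00000000a000
noncomputable def tJ6 : Nat := 0x100000c00000000000000000000000000100000004000000000800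
noncomputable def tA7 : Nat := 0xc3ace7aa437d2816922438d23c8f43388e248a21988c5284a138642d878100000
noncomputable def tJ7 : Nat := 0x400f0054d0092002c0c02809c80110200700402238e50100301940749d300000
noncomputable def tP : Nat := 0x727153514a4823211c1b1a1815141312110e0d0c0b0a09080000
def par : Par := ⟨10, 5, 1023, 31, 1055, 1024⟩
def tabs : Nat → Nat
  | 0 => tA0
  | 1 => tA1
  | 2 => tA2
  | 3 => tA3
  | 4 => tA4
  | 5 => tA5
  | 6 => tA6
  | 7 => tA7
  | _ => 0
def pe (u : Nat) : Nat := Nat.land (Nat.shiftRight tP (Nat.mul u 8)) 255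
def je0 (v : Nat) : Nat := Nat.land (Nat.shiftRight tJ0 (Nat.mul v 10)) 1023
def stp0 (off v : Nat) : Nat := Nat.land (Nat.add (Nat.land (Nat.shiftRight tA0 (Nat.mul v 10)) 1023) off) 1055
theorem stp0_eq : ∀ off v, stp0 off v = step par (tabs 0) off v := fun _ _ => rfl
attribute [irreducible] stp0
def je1 (v : Nat) : Nat := Nat.land (Nat.shiftRight tJ1 (Nat.mul v 10)) 1023
def stp1 (off v : Nat) : Nat := Nat.land (Nat.add (Nat.land (Nat.shiftRight tA1 (Nat.mul v 10)) 1023) off) 1055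
theorem stp1_eq : ∀ off v, stp1 off v = step par (tabs 1) off v := fun _ _ => rfl
attribute [irreducible] stp1
def je2 (v : Nat) : Nat := Nat.land (Nat.shiftRight tJ2 (Nat.mul v 10)) 1023
def stp2 (off v : Nat) : Nat := Nat.land (Nat.add (Nat.land (Nat.shiftRight tA2 (Nat.mul v 10)) 1023) off) 1055
theorem stp2_eq : ∀ off v, stp2 off v = step par (tabs 2) off v := fun _ _ => rfl
attribute [irreducible] stp2
def je3 (v : Nat) : Nat := Nat.land (Nat.shiftRight tJ3 (Nat.mul v 10)) 1023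
def stp3 (off v : Nat) : Nat := Nat.land (Nat.add (Nat.land (Nat.shiftRight tA3 (Nat.mul v 10)) 1023) off) 1055
theorem stp3_eq : ∀ off v, stp3 off v = step par (tabs 3) off v := fun _ _ => rfl
attribute [irreducible] stp3
def je4 (v : Nat) : Nat := Nat.land (Nat.shiftRight tJ4 (Nat.mul v 10)) 1023
def stp4 (off v : Nat) : Nat := Nat.land (Nat.add (Nat.land (Nat.shiftRight tA4 (Nat.mul v 10)) 1023) off) 1055
theorem stp4_eq : ∀ off v, stp4 off v = step par (tabs 4) off v := fun _ _ => rfl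
attribute [irreducible] stp4
def je5 (v : Nat) : Nat := Nat.land (Nat.shiftRight tJ5 (Nat.mul v 10)) 1023
def stp5 (off v : Nat) : Nat := Nat.land (Nat.add (Nat.land (Nat.shiftRight tA5 (Nat.mul v 10)) 1023) off) 1055
theorem stp5_eq : ∀ off v, stp5 off v = step par (tabs 5) off v := fun _ _ => rfl
attribute [irreducible] stp5
def je6 (v : Nat) : Nat := Nat.land (Nat.shiftRight tJ6 (Nat.mul v 10)) 1023
def stp6 (off v : Nat) : Nat := Nat.land (Nat.add (Nat.land (Nat.shiftRight tA6 (Nat.mul v 10)) 1023) off) 1055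
theorem stp6_eq : ∀ off v, stp6 off v = step par (tabs 6) off v := fun _ _ => rfl
attribute [irreducible] stp6
def je7 (v : Nat) : Nat := Nat.land (Nat.shiftRight tJ7 (Nat.mul v 10)) 1023
def stp7 (off v : Nat) : Nat := Nat.land (Nat.add (Nat.land (Nat.shiftRight tA7 (Nat.mul v 10)) 1023) off) 1055
theorem stp7_eq : ∀ off v, stp7 off v = step par (tabs 7) off v := fun _ _ => rfl
attribute [irreducible] stp7
def je : Nat → Nat → Nat
  | 0 => je0
  | 1 => je1
  | 2 => je2
  | 3 => je3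
  | 4 => je4
  | 5 => je5
  | 6 => je6
  | 7 => je7
  | _ => fun _ => 0
def st : Nat → Nat → Nat → Nat
  | 0 => stp0
  | 1 => stp1
  | 2 => stp2
  | 3 => stp3
  | 4 => stp4
  | 5 => stp5
  | 6 => stp6
  | 7 => stp7
  | _ => fun off v => step par 0 off v
theorem hst : ∀ l off v, st l off v = step par (tabs l) off v := by
  intro l off v
  rcases Nat.lt_or_ge l 8 with h | h
  · interval_cases l
    exacts [stp0_eq off v, stp1_eq off v, stp2_eq off v, stp3_eq off v, stp4_eq off v, stp5_eq off v, stp6_eq off v, stp7_eq off v]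
  · obtain ⟨k, rfl⟩ : ∃ k, l = k + 8 := ⟨l - 8, by omega⟩
    rfl
def lf0_0 : Leaf (walkS st) := ⟨[], [7, 0], 0, 0, (fun _ v => v), (fun off v => (stp0 off (stp7 off v))), (fun v _ _ => v), fun _ _ => rfl, fun _ _ => rfl⟩
def lf0_1 : Leaf (walkS st) := ⟨[0], [], 0, 0, (fun off v => (stp0 off v)), (fun _ v => v), (fun _ u _ => u), fun _ _ => rfl, fun _ _ => rfl⟩
def lf0_3 : Leaf (walkS st) := ⟨[], [2, 0, 2], 9, 2, (fun _ v => v), (fun off v => (stp2 off (stp0 off (stp2 off v)))), (fun v _ _ => v), fun _ _ => rfl, fun _ _ => rfl⟩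
def tree0 : RTree (walkS st) :=
  (.node 1 (.fork lf0_0) (.node 2 (.fork lf0_1) (.node 3 .tleaf (.fork lf0_3))))
def lf1_0 : Leaf (walkS st) := ⟨[], [7, 1], 1, 0, (fun _ v => v), (fun off v => (stp1 off (stp7 off v))), (fun v _ _ => v), fun _ _ => rfl, fun _ _ => rfl⟩
def lf1_2 : Leaf (walkS st) := ⟨[1], [], 1, 0, (fun off v => (stp1 off v)), (fun _ v => v), (fun _ u _ => u), fun _ _ => rfl, fun _ _ => rfl⟩
def lf1_3 : Leaf (walkS st) := ⟨[], [2, 4, 0, 1, 2, 0, 1, 2, 0], 30, 2, (fun _ v => v), (fun off v => (stp0 off (stp2 off (stp1 off (stp0 off (stp2 off (stp1 off (stp0 off (stp4 off (stp2 off v)))))))))), (fun v _ _ => v), fun _ _ => rfl, fun _ _ => rfl⟩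
def tree1 : RTree (walkS st) :=
  (.node 1 (.fork lf1_0) (.node 2 .tleaf (.node 3 (.fork lf1_2) (.fork lf1_3))))
def lf2_1 : Leaf (walkS st) := ⟨[], [7, 2], 2, 0, (fun _ v => v), (fun off v => (stp2 off (stp7 off v))), (fun v _ _ => v), fun _ _ => rfl, fun _ _ => rfl⟩
def lf2_2 : Leaf (walkS st) := ⟨[2], [], 2, 0, (fun off v => (stp2 off v)), (fun _ v => v), (fun _ u _ => u), fun _ _ => rfl, fun _ _ => rfl⟩
def tree2 : RTree (walkS st) :=
  (.node 1 .tleaf (.node 2 (.fork lf2_1) (.fork lf2_2)))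
def lf3_0 : Leaf (walkS st) := ⟨[3], [], 3, 0, (fun off v => (stp3 off v)), (fun _ v => v), (fun _ u _ => u), fun _ _ => rfl, fun _ _ => rfl⟩
def lf3_2 : Leaf (walkS st) := ⟨[], [6, 5], 7, 0, (fun _ v => v), (fun off v => (stp5 off (stp6 off v))), (fun v _ _ => v), fun _ _ => rfl, fun _ _ => rfl⟩
def lf3_3 : Leaf (walkS st) := ⟨[], [7, 3], 3, 0, (fun _ v => v), (fun off v => (stp3 off (stp7 off v))), (fun v _ _ => v), fun _ _ => rfl, fun _ _ => rfl⟩
def lf3_4 : Leaf (walkS st) := ⟨[], [1, 3, 1], 15, 3, (fun _ v => v), (fun off v => (stp1 off (stp3 off (stp1 off v)))), (fun v _ _ => v), fun _ _ => rfl, fun _ _ => rfl⟩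
def lf3_5 : Leaf (walkS st) := ⟨[], [0, 3, 0], 10, 3, (fun _ v => v), (fun off v => (stp0 off (stp3 off (stp0 off v)))), (fun v _ _ => v), fun _ _ => rfl, fun _ _ => rfl⟩
def tree3 : RTree (walkS st) :=
  (.node 1 (.fork lf3_0) (.node 2 .tleaf (.node 3 (.fork lf3_2) (.node 4 (.fork lf3_3) (.node 5 (.fork lf3_4) (.fork lf3_5))))))
def lf4_1 : Leaf (walkS st) := ⟨[4], [], 4, 0, (fun off v => (stp4 off v)), (fun _ v => v), (fun _ u _ => u), fun _ _ => rfl, fun _ _ => rfl⟩
def lf4_2 : Leaf (walkS st) := ⟨[], [5, 6, 5, 6], 29, 0, (fun _ v => v), (fun off v => (stp6 off (stp5 off (stp6 off (stp5 off v))))), (fun v _ _ => v), fun _ _ => rfl, fun _ _ => rfl⟩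
def lf4_3 : Leaf (walkS st) := ⟨[], [1, 4, 1], 16, 3, (fun _ v => v), (fun off v => (stp1 off (stp4 off (stp1 off v)))), (fun v _ _ => v), fun _ _ => rfl, fun _ _ => rfl⟩
def lf4_4 : Leaf (walkS st) := ⟨[], [2, 4, 2], 20, 3, (fun _ v => v), (fun off v => (stp2 off (stp4 off (stp2 off v)))), (fun v _ _ => v), fun _ _ => rfl, fun _ _ => rfl⟩
def lf4_5 : Leaf (walkS st) := ⟨[], [0, 4, 0], 11, 3, (fun _ v => v), (fun off v => (stp0 off (stp4 off (stp0 off v)))), (fun v _ _ => v), fun _ _ => rfl, fun _ _ => rfl⟩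
def tree4 : RTree (walkS st) :=
  (.node 2 (.node 1 .tleaf (.fork lf4_1)) (.node 4 (.node 3 (.fork lf4_2) (.fork lf4_3)) (.node 5 (.fork lf4_4) (.fork lf4_5))))
def lf5_0 : Leaf (walkS st) := ⟨[5], [], 5, 0, (fun off v => (stp5 off v)), (fun _ v => v), (fun _ u _ => u), fun _ _ => rfl, fun _ _ => rfl⟩
def lf5_2 : Leaf (walkS st) := ⟨[], [6, 3], 33, 1, (fun _ v => v), (fun off v => (stp3 off (stp6 off v))), (fun v _ _ => v), fun _ _ => rfl, fun _ _ => rfl⟩
def lf5_3 : Leaf (walkS st) := ⟨[], [2, 5, 2], 21, 3, (fun _ v => v), (fun off v => (stp2 off (stp5 off (stp2 off v)))), (fun v _ _ => v), fun _ _ => rfl, fun _ _ => rfl⟩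
def lf5_4 : Leaf (walkS st) := ⟨[], [1, 5, 1], 17, 3, (fun _ v => v), (fun off v => (stp1 off (stp5 off (stp1 off v)))), (fun v _ _ => v), fun _ _ => rfl, fun _ _ => rfl⟩
def lf5_5 : Leaf (walkS st) := ⟨[], [0, 5, 0], 12, 3, (fun _ v => v), (fun off v => (stp0 off (stp5 off (stp0 off v)))), (fun v _ _ => v), fun _ _ => rfl, fun _ _ => rfl⟩
def tree5 : RTree (walkS st) :=
  (.node 2 (.node 1 (.fork lf5_0) .tleaf) (.node 3 (.fork lf5_2) (.node 4 (.fork lf5_3) (.node 5 (.fork lf5_4) (.fork lf5_5)))))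
def lf6_0 : Leaf (walkS st) := ⟨[], [5, 3], 7, 2, (fun _ v => v), (fun off v => (stp3 off (stp5 off v))), (fun v _ _ => v), fun _ _ => rfl, fun _ _ => rfl⟩
def lf6_1 : Leaf (walkS st) := ⟨[6], [], 6, 0, (fun off v => (stp6 off v)), (fun _ v => v), (fun _ u _ => u), fun _ _ => rfl, fun _ _ => rfl⟩
def lf6_3 : Leaf (walkS st) := ⟨[], [3, 5], 33, 0, (fun _ v => v), (fun off v => (stp5 off (stp3 off v))), (fun v _ _ => v), fun _ _ => rfl, fun _ _ => rfl⟩
def lf6_4 : Leaf (walkS st) := ⟨[], [2, 6, 2], 22, 1, (fun _ v => v), (fun off v => (stp2 off (stp6 off (stp2 off v)))), (fun v _ _ => v), fun _ _ => rfl, fun _ _ => rfl⟩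
def tree6 : RTree (walkS st) :=
  (.node 2 (.node 1 (.fork lf6_0) (.fork lf6_1)) (.node 3 .tleaf (.node 4 (.fork lf6_3) (.fork lf6_4))))
def lf7_0 : Leaf (walkS st) := ⟨[0], [7, 0], 0, 0, (fun off v => (stp0 off v)), (fun off v => (stp0 off (stp7 off v))), (fun _ _ p => p), fun _ _ => rfl, fun _ _ => rfl⟩
def lf7_1 : Leaf (walkS st) := ⟨[], [3, 0, 3, 0], 10, 2, (fun _ v => v), (fun off v => (stp0 off (stp3 off (stp0 off (stp3 off v))))), (fun v _ _ => v), fun _ _ => rfl, fun _ _ => rfl⟩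
def lf7_2 : Leaf (walkS st) := ⟨[], [3, 2, 3, 2, 3, 2, 3, 2, 3, 2, 0], 57, 10, (fun _ v => v), (fun off v => (stp0 off (stp2 off (stp3 off (stp2 off (stp3 off (stp2 off (stp3 off (stp2 off (stp3 off (stp2 off (stp3 off v)))))))))))), (fun v _ _ => v), fun _ _ => rfl, fun _ _ => rfl⟩
def lf7_3 : Leaf (walkS st) := ⟨[], [4, 5, 6, 5, 6], 29, 1, (fun _ v => v), (fun off v => (stp6 off (stp5 off (stp6 off (stp5 off (stp4 off v)))))), (fun v _ _ => v), fun _ _ => rfl, fun _ _ => rfl⟩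
def lf7_4 : Leaf (walkS st) := ⟨[], [3, 6, 3, 6, 3, 6], 25, 1, (fun _ v => v), (fun off v => (stp6 off (stp3 off (stp6 off (stp3 off (stp6 off (stp3 off v))))))), (fun v _ _ => v), fun _ _ => rfl, fun _ _ => rfl⟩
def lf7_5 : Leaf (walkS st) := ⟨[3], [7, 3], 3, 0, (fun off v => (stp3 off v)), (fun off v => (stp3 off (stp7 off v))), (fun _ _ p => p), fun _ _ => rfl, fun _ _ => rfl⟩
def lf7_6 : Leaf (walkS st) := ⟨[], [4, 3, 4, 3, 4, 3], 49, 5, (fun _ v => v), (fun off v => (stp3 off (stp4 off (stp3 off (stp4 off (stp3 off (stp4 off v))))))), (fun v _ _ => v), fun _ _ => rfl, fun _ _ => rfl⟩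
def lf7_7 : Leaf (walkS st) := ⟨[], [4, 0, 4, 0], 11, 2, (fun _ v => v), (fun off v => (stp0 off (stp4 off (stp0 off (stp4 off v))))), (fun v _ _ => v), fun _ _ => rfl, fun _ _ => rfl⟩
def lf7_8 : Leaf (walkS st) := ⟨[], [5, 0, 5, 0], 12, 2, (fun _ v => v), (fun off v => (stp0 off (stp5 off (stp0 off (stp5 off v))))), (fun v _ _ => v), fun _ _ => rfl, fun _ _ => rfl⟩
def lf7_9 : Leaf (walkS st) := ⟨[], [3, 1, 3, 1], 15, 2, (fun _ v => v), (fun off v => (stp1 off (stp3 off (stp1 off (stp3 off v))))), (fun v _ _ => v), fun _ _ => rfl, fun _ _ => rfl⟩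
def lf7_10 : Leaf (walkS st) := ⟨[], [4, 1, 4, 1], 16, 2, (fun _ v => v), (fun off v => (stp1 off (stp4 off (stp1 off (stp4 off v))))), (fun v _ _ => v), fun _ _ => rfl, fun _ _ => rfl⟩
def lf7_11 : Leaf (walkS st) := ⟨[], [3, 5, 3, 5, 3, 5], 50, 0, (fun _ v => v), (fun off v => (stp5 off (stp3 off (stp5 off (stp3 off (stp5 off (stp3 off v))))))), (fun v _ _ => v), fun _ _ => rfl, fun _ _ => rfl⟩
def lf7_12 : Leaf (walkS st) := ⟨[], [1, 2, 0, 1, 2, 4, 0, 1, 2, 0], 30, 6, (fun _ v => v), (fun off v => (stp0 off (stp2 off (stp1 off (stp0 off (stp4 off (stp2 off (stp1 off (stp0 off (stp2 off (stp1 off v))))))))))), (fun v _ _ => v), fun _ _ => rfl, fun _ _ => rfl⟩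
def lf7_13 : Leaf (walkS st) := ⟨[1], [7, 1], 1, 0, (fun off v => (stp1 off v)), (fun off v => (stp1 off (stp7 off v))), (fun _ _ p => p), fun _ _ => rfl, fun _ _ => rfl⟩
def lf7_14 : Leaf (walkS st) := ⟨[7, 1], [1, 7, 7], 1, 0, (fun off v => (stp1 off (stp7 off v))), (fun off v => (stp7 off (stp7 off (stp1 off v)))), (fun _ _ p => p), fun _ _ => rfl, fun _ _ => rfl⟩
def lf7_15 : Leaf (walkS st) := ⟨[], [1, 0, 1, 0, 1, 0, 1, 0], 8, 2, (fun _ v => v), (fun off v => (stp0 off (stp1 off (stp0 off (stp1 off (stp0 off (stp1 off (stp0 off (stp1 off v))))))))), (fun v _ _ => v), fun _ _ => rfl, fun _ _ => rfl⟩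
def lf7_16 : Leaf (walkS st) := ⟨[], [2, 1, 2, 1, 2, 1, 7], 40, 5, (fun _ v => v), (fun off v => (stp7 off (stp1 off (stp2 off (stp1 off (stp2 off (stp1 off (stp2 off v)))))))), (fun v _ _ => v), fun _ _ => rfl, fun _ _ => rfl⟩
def lf7_17 : Leaf (walkS st) := ⟨[], [2, 3, 2, 3, 2, 3, 2, 3, 2, 3, 0], 31, 0, (fun _ v => v), (fun off v => (stp0 off (stp3 off (stp2 off (stp3 off (stp2 off (stp3 off (stp2 off (stp3 off (stp2 off (stp3 off (stp2 off v)))))))))))), (fun v _ _ => v), fun _ _ => rfl, fun _ _ => rfl⟩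
def lf7_18 : Leaf (walkS st) := ⟨[1, 7, 7], [7, 1], 1, 0, (fun off v => (stp7 off (stp7 off (stp1 off v)))), (fun off v => (stp1 off (stp7 off v))), (fun _ _ p => p), fun _ _ => rfl, fun _ _ => rfl⟩
def lf7_19 : Leaf (walkS st) := ⟨[7, 7, 2, 7], [2, 7, 7, 7], 2, 0, (fun off v => (stp7 off (stp2 off (stp7 off (stp7 off v))))), (fun off v => (stp7 off (stp7 off (stp7 off (stp2 off v))))), (fun _ _ p => p), fun _ _ => rfl, fun _ _ => rfl⟩
def tree7 : RTree (walkS st) :=
  (.node 8 (.node 2 (.node 1 (.fork lf7_0) (.fork lf7_1)) (.node 4 (.node 3 (.fork lf7_2) (.fork lf7_3)) (.node 6 (.node 5 (.fork lf7_4) (.fork lf7_5)) (.node 7 (.fork lf7_6) (.fork lf7_7))))) (.node 14 (.node 11 (.node 9 (.fork lf7_8) (.node 10 (.fork lf7_9) (.fork lf7_10))) (.node 12 (.fork lf7_11) (.node 13 (.fork lf7_12) (.fork lf7_13)))) (.node 17 (.node 15 (.fork lf7_14) (.node 16 (.fork lf7_15) (.fork lf7_16))) (.node 18 (.fork lf7_17) (.node 19 (.fork lf7_18) (.fork lf7_19))))))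
def trees : Nat → RTree (walkS st)
  | 0 => tree0
  | 1 => tree1
  | 2 => tree2
  | 3 => tree3
  | 4 => tree4
  | 5 => tree5
  | 6 => tree6
  | 7 => tree7
  | _ => .tleaf
noncomputable def fs0 (v : Nat) : Bool := chkSlot par tA0 je0 pe 5 31 8 (deadF par tA7) (fun _ => 25) tree0 0 v
noncomputable def fs1 (v : Nat) : Bool := chkSlot par tA1 je1 pe 5 31 8 (deadF par tA7) (fun _ => 25) tree1 1 v
noncomputable def fs2 (v : Nat) : Bool := chkSlot par tA2 je2 pe 5 31 8 (deadF par tA7) (fun _ => 25) tree2 2 v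
noncomputable def fs3 (v : Nat) : Bool := chkSlot par tA3 je3 pe 5 31 8 (deadF par tA7) (fun _ => 25) tree3 3 v
noncomputable def fs4 (v : Nat) : Bool := chkSlot par tA4 je4 pe 5 31 8 (deadF par tA7) (fun _ => 25) tree4 4 v
noncomputable def fs5 (v : Nat) : Bool := chkSlot par tA5 je5 pe 5 31 8 (deadF par tA7) (fun _ => 25) tree5 5 v
noncomputable def fs6 (v : Nat) : Bool := chkSlot par tA6 je6 pe 5 31 8 (deadF par tA7) (fun _ => 25) tree6 6 v
noncomputable def fs7 (v : Nat) : Bool := chkSlot par tA7 je7 pe 5 31 8 (fun _ => true) (fun v => Nat.pred v) tree7 7 v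
def gl (k : Nat) : Bool := liveF par tA7 (Nat.succ k)

end

end Cfsg.Agent.Lib.Helper35.HeOrd.Y0
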